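import Cfsg.Agent.MElevenUnique.Tools
import Cfsg.Agent.Perm.PrimeSylow
import Cfsg.Agent.Perm69.JordanPrime
import Cfsg.Agent.Small.Counting
import Cfsg.Agent.Transfer.HallComplement

/-!
# Groups of even permutations of degree eleven: elements and orders

A transitive group of even permutations on 11 points, not the alternating group, has order 11, 55, 660
or 7920.
-/

set_option autoImplicit false

namespace CfsgLib.DegreeEleven

open MulAction Equiv CfsgLib.MElevenUnique

variable {α : Type*} [Fintype α] [DecidableEq α] {K : Subgroup (Perm α)} [IsPretransitive K α]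
  (hα : Fintype.card α = 11) (hev : K ≤ alternatingGroup α) (hA : ¬ alternatingGroup α ≤ K)

include hα in
theorem natCard_points : Nat.card α = 11 := by rw [Nat.card_eq_fintype_card, hα]

omit [IsPretransitive K α] in
include hα in
theorem card_support_add_fix (g : K) : (g : Perm α).support.card + fixCard α g = 11 := by
  have h : fixCard α g = ((g : Perm α).supportᶜ).card := by
    rw [← Nat.card_eq_finsetCard]
    exact Nat.card_congr (Equiv.subtypeEquivRight fun x => by
      rw [Finset.mem_compl, Perm.mem_support, not_not]; rfl)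
  rw [h, Finset.card_add_card_compl, hα]

omit [IsPretransitive K α] in
include hα in
theorem fix_ne_eleven {g : K} (hg : g ≠ 1) : fixCard α g ≠ 11 := by
  intro h
  have h1 := card_support_add_fix hα g
  have h2 : (g : Perm α).support = ∅ := Finset.card_eq_zero.1 (by omega)
  exact hg (Subtype.ext (Perm.support_eq_empty_iff.1 h2))

omit [Fintype α] [DecidableEq α] [IsPretransitive K α] in
theorem card_fifth_roots : Nat.card {a : ZMod 11 // a ^ 5 = 1} = 5 := by
  rw [Nat.card_eq_fintype_card]
  decide

theorem eq_one_of_fifth_root : ∀ a : ZMod 11, a ^ 5 = 1 → (a ^ 2 = 1 ∨ a ^ 3 = 1) → a = 1 := by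
  decide

omit [IsPretransitive K α] in
theorem ne_one_of_orderOf {p : ℕ} [hp : Fact p.Prime] {g : K} (hg : orderOf g = p) : g ≠ 1 := fun e => by
  rw [e, orderOf_one] at hg
  exact hp.out.one_lt.ne hg

omit [IsPretransitive K α] in
include hα in
theorem fix_mod {p : ℕ} [hp : Fact p.Prime] {g : K} (hg : orderOf g = p) : 11 % p = fixCard α g % p := by
  rw [← natCard_points hα]
  exact card_modEq_fix (by rw [← hg, pow_orderOf_eq_one])

omit [IsPretransitive K α] in
include hα in
theorem fix_le (g : K) : fixCard α g ≤ 11 := natCard_points hα ▸ fixCard_le g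

include hα hA in
/-- A cycle of prime length at most 8 would give the alternating group. -/
theorem false_of_cycle {p : ℕ} [hp : Fact p.Prime] {g : K} (hg : orderOf g = p) (hp8 : p + 3 ≤ 11)
    (h : (g : Perm α).support.card = p) : False := by
  haveI : IsPreprimitive K α := IsPreprimitive.of_prime_card (by rw [natCard_points hα]; norm_num)
  have ho : orderOf (g : Perm α) = p := by rw [Subgroup.orderOf_coe, hg]
  exact hA (CfsgLib.JordanPrime.alternatingGroup_le_of_prime_cycle inferInstance hp.out
    (by rw [hα]; exact hp8)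
    (Perm.isCycle_of_prime_order (by rw [ho]; exact hp.out) (by rw [ho, h]; linarith [hp.out.pos])) h g.2)

include hα hA in
theorem not_order_seven [Fact (Nat.Prime 7)] (g : K) : orderOf g ≠ 7 := fun hg => by
  have := fix_mod hα hg
  have := fix_le hα g
  have := fix_ne_eleven hα (ne_one_of_orderOf hg)
  exact false_of_cycle hα hA hg (by norm_num) (by have := card_support_add_fix hα g; omega)

include hα hA in
theorem fix_five [Fact (Nat.Prime 5)] {g : K} (hg : orderOf g = 5) : fixCard α g = 1 := by
  have := fix_mod hα hg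
  have := fix_le hα g
  have := fix_ne_eleven hα (ne_one_of_orderOf hg)
  by_contra h
  exact false_of_cycle hα hA hg (by norm_num) (by have := card_support_add_fix hα g; omega)

omit [IsPretransitive K α] in
include hα hev in
theorem fix_two {g : K} (hg : orderOf g = 2) : fixCard α g = 3 ∨ fixCard α g = 7 := by
  haveI := Fact.mk Nat.prime_two
  have ho : orderOf (g : Perm α) = 2 := by rw [Subgroup.orderOf_coe, hg]
  obtain ⟨n, hn⟩ := Perm.cycleType_prime_order (σ := (g : Perm α)) (by rw [ho]; exact Nat.prime_two)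
  rw [ho] at hn
  have hsum := Perm.sum_cycleType (g : Perm α)
  rw [hn, Multiset.sum_replicate, smul_eq_mul] at hsum
  have hsign : Perm.sign (g : Perm α) = 1 := Perm.mem_alternatingGroup.1 (hev g.2)
  rw [Perm.sign_of_cycleType, hn, Multiset.sum_replicate, Multiset.card_replicate, smul_eq_mul] at hsign
  have heven : Even ((n + 1) * 2 + (n + 1)) := by
    by_contra h
    rw [Nat.not_even_iff_odd] at h
    rw [Odd.neg_one_pow h] at hsign
    exact absurd hsign (by decide)
  rw [Nat.even_iff] at heven
  have := card_support_add_fix hα g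
  omega

omit [IsPretransitive K α] in
include hα in
theorem fix_eleven [Fact (Nat.Prime 11)] {g : K} (hg : orderOf g = 11) : fixCard α g = 0 := by
  have := fix_mod hα hg
  have := fix_le hα g
  have := fix_ne_eleven hα (ne_one_of_orderOf hg)
  omega

include hα hA in
theorem not_sq_five : ¬ 25 ∣ Nat.card K := by
  intro h
  haveI := Fact.mk Nat.prime_five
  obtain ⟨Q, hQ⟩ := Sylow.exists_subgroup_card_pow_prime (G := K) 5 (n := 2) (by simpa using h)
  have hfix : ∀ g ∈ Q, g ≠ 1 → fixCard α g = 1 := fun g hg hg1 => by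
    have hd : orderOf g ∣ 5 ^ 2 := hQ ▸ Subgroup.orderOf_dvd_natCard (s := Q) hg
    obtain ⟨k, hk, hgk⟩ := (Nat.dvd_prime_pow Nat.prime_five).1 hd
    interval_cases k
    · exact absurd (orderOf_eq_one_iff.1 (by simpa using hgk)) hg1
    · exact fix_five hα hA (by simpa using hgk)
    · -- an element of order 25
      have h5 : orderOf (g ^ 5) = 5 := by rw [orderOf_pow_of_dvd (by norm_num) (by rw [hgk]; norm_num), hgk]; norm_num
      have h1 := fix_five hα hA h5
      have h2 : fixCard α g ≤ fixCard α (g ^ 5) := Nat.card_le_card_of_injective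
        (fun a => ⟨a.1, by
          show g ^ 5 • a.1 = a.1
          exact (stabilizer K a.1).pow_mem a.2 5⟩) fun a b e => Subtype.ext (congrArg (fun c : fixedBy α (g ^ 5) => (c : α)) e)
      have hX : IsPGroup 5 (Subgroup.zpowers g) := IsPGroup.of_card (n := 2) (by rw [Nat.card_zpowers, hgk])
      have h3 := hX.card_modEq_card_fixedPoints α
      have h4 : Nat.card (fixedPoints (Subgroup.zpowers g) α) = fixCard α g := Nat.card_congr
        (Equiv.subtypeEquivRight fun c => ⟨fun hc => hc ⟨g, Subgroup.mem_zpowers g⟩, fun hc z => by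
          obtain ⟨j, hj⟩ := z.2
          show (z : K) • c = c
          rw [← hj]
          exact (stabilizer K c).zpow_mem hc j⟩)
      rw [h4, natCard_points hα, Nat.ModEq] at h3
      omega
  classical
  haveI := Fintype.ofFinite Q
  haveI : ∀ g : Q, Fintype (fixedBy α g) := fun g => Fintype.ofFinite _
  haveI : Fintype (Quotient (orbitRel Q α)) := Fintype.ofFinite _
  have hB := sum_card_fixedBy_eq_card_orbits_mul_card_group Q α
  rw [← Nat.card_eq_fintype_card (α := Q), hQ] at hB
  have hsum : ∑ g : Q, Fintype.card (fixedBy α g) = 35 := by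
    rw [← Finset.add_sum_erase _ _ (Finset.mem_univ (1 : Q))]
    have h1 : Fintype.card (fixedBy α (1 : Q)) = 11 := by
      rw [Fintype.card_congr (Equiv.setCongr (show fixedBy α (1 : Q) = Set.univ by simp)), Fintype.card_setUniv, hα]
    have h2 : ∀ g ∈ (Finset.univ : Finset Q).erase 1, Fintype.card (fixedBy α g) = 1 := fun g hg => by
      rw [← Nat.card_eq_fintype_card]
      exact hfix g g.2 fun e => (Finset.mem_erase.1 hg).1 (Subtype.ext e)
    rw [h1, Finset.sum_congr rfl h2, Finset.sum_const, Finset.card_erase_of_mem (Finset.mem_univ _),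
      Finset.card_univ, ← Nat.card_eq_fintype_card, hQ]
    norm_num
  rw [hsum] at hB
  omega

omit [IsPretransitive K α] in
include hα hev in
theorem card_dvd_half_factorial : Nat.card K ∣ 19958400 := by
  haveI : Nontrivial α := Fintype.one_lt_card_iff_nontrivial.1 (by omega)
  refine (Subgroup.card_dvd_of_le hev).trans (dvd_of_eq ?_)
  rw [nat_card_alternatingGroup, natCard_points hα]
  rfl

include hα hev hA in
theorem prime_dvd {q : ℕ} (hq : q.Prime) (h : q ∣ Nat.card K) : q = 2 ∨ q = 3 ∨ q = 5 ∨ q = 11 := by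
  haveI := Fact.mk hq
  have h1 := h.trans (card_dvd_half_factorial hα hev)
  rw [show 19958400 = 2 ^ 7 * (3 ^ 4 * (5 ^ 2 * (7 * 11))) by norm_num] at h1
  rcases hq.dvd_mul.1 h1 with h1 | h1
  · exact Or.inl ((Nat.prime_dvd_prime_iff_eq hq Nat.prime_two).1 (hq.dvd_of_dvd_pow h1))
  rcases hq.dvd_mul.1 h1 with h1 | h1
  · exact Or.inr (Or.inl ((Nat.prime_dvd_prime_iff_eq hq Nat.prime_three).1 (hq.dvd_of_dvd_pow h1)))
  rcases hq.dvd_mul.1 h1 with h1 | h1
  · exact Or.inr (Or.inr (Or.inl ((Nat.prime_dvd_prime_iff_eq hq Nat.prime_five).1 (hq.dvd_of_dvd_pow h1))))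
  rcases hq.dvd_mul.1 h1 with h1 | h1
  · exfalso
    obtain rfl := (Nat.prime_dvd_prime_iff_eq hq (by norm_num : Nat.Prime 7)).1 h1
    obtain ⟨g, hg⟩ := exists_prime_orderOf_dvd_card' 7 h
    exact not_order_seven hα hA g hg
  · exact Or.inr (Or.inr (Or.inr ((Nat.prime_dvd_prime_iff_eq hq (by norm_num : Nat.Prime 11)).1 h1)))

include hα hev hA in
theorem card_dvd : Nat.card K ∣ 570240 := by
  have h := card_dvd_half_factorial hα hev
  have h7 : ¬ 7 ∣ Nat.card K := fun h7 => by
    rcases prime_dvd hα hev hA (by norm_num) h7 with e | e | e | e <;> norm_num at e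
  have h25 := not_sq_five hα hA
  rw [Nat.dvd_iff_prime_pow_dvd_dvd]
  intro p k hp hpk
  rcases Nat.eq_zero_or_pos k with rfl | hk
  · simp
  have hpK : p ∣ Nat.card K := (dvd_pow_self p hk.ne').trans hpk
  have h' := hpk.trans h
  rcases prime_dvd hα hev hA hp hpK with rfl | rfl | rfl | rfl
  · rw [show 19958400 = 155925 * 128 by norm_num] at h'
    exact ((Nat.Coprime.pow_left k (by norm_num : Nat.Coprime 2 155925)).dvd_of_dvd_mul_left h').trans
      (by norm_num)
  · rw [show 19958400 = 246400 * 81 by norm_num] at h'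
    exact ((Nat.Coprime.pow_left k (by norm_num : Nat.Coprime 3 246400)).dvd_of_dvd_mul_left h').trans
      (by norm_num)
  · have : k < 2 := by
      by_contra hk2
      exact h25 ((pow_dvd_pow 5 (not_lt.1 hk2)).trans hpk)
    interval_cases k
    norm_num
  · rw [show 19958400 = 1814400 * 11 by norm_num] at h'
    exact ((Nat.Coprime.pow_left k (by norm_num : Nat.Coprime 11 1814400)).dvd_of_dvd_mul_left h').trans
      (by norm_num)

include hα hev hA in
theorem card_Cg_five [Fact (Nat.Prime 5)] {x : K} (hx : orderOf x = 5) : Nat.card (Cg x) = 5 := by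
  have hmem : x ∈ Cg x := mem_Cg.2 rfl
  have h5 : 5 ∣ Nat.card (Cg x) := hx ▸ Subgroup.orderOf_dvd_natCard (s := Cg x) hmem
  have hx5 : x ^ 5 = 1 := by rw [← hx, pow_orderOf_eq_one]
  have hfx := fix_five hα hA hx
  have honly : ∀ {q : ℕ}, q.Prime → q ∣ Nat.card (Cg x) → q = 5 := by
    intro q hq hd
    haveI := Fact.mk hq
    obtain ⟨⟨z, hzC⟩, hz⟩ := exists_prime_orderOf_dvd_card' q hd
    rw [← Subgroup.orderOf_coe] at hz
    simp only at hz
    have hz1 : z ^ q = 1 := by rw [← hz, pow_orderOf_eq_one]
    have hc : Commute z x := mem_Cg.1 hzC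
    have e1 := fix_modEq_inter (X := α) hc hx5
    have e2 := fix_modEq_inter (X := α) hc.symm hz1
    have e3 : Nat.card {a : α // z • a = a ∧ x • a = a} = Nat.card {a : α // x • a = a ∧ z • a = a} :=
      Nat.card_congr (Equiv.subtypeEquivRight fun a => and_comm)
    have e4 := inter_le_fix_left (X := α) x z
    have e5 := fix_mod hα hz
    have e6 := fix_le hα z
    have e7 := fix_ne_eleven hα (ne_one_of_orderOf hz)
    rcases prime_dvd hα hev hA hq (hd.trans (Subgroup.card_subgroup_dvd_card _)) with rfl | rfl | rfl | rfl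
    · have := fix_two hα hev hz; omega
    · omega
    · rfl
    · have := fix_eleven hα hz; omega
  obtain ⟨k, hk⟩ : ∃ k, Nat.card (Cg x) = 5 ^ k :=
    ⟨_, Nat.eq_prime_pow_of_unique_prime_dvd Nat.card_pos.ne' honly⟩
  have hk2 : k < 2 := by
    by_contra h
    exact not_sq_five hα hA (((pow_dvd_pow 5 (not_lt.1 h)).trans (dvd_of_eq hk.symm)).trans
      (Subgroup.card_subgroup_dvd_card _))
  interval_cases k
  · rw [hk] at h5; norm_num at h5
  · simpa using hk

include hα hev hA in
theorem card_Ng_five [Fact (Nat.Prime 5)] (Q : Sylow 5 K) (h5 : 5 ∣ Nat.card K) :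
    5 ∣ Nat.card (Ng (Q : Subgroup K)) ∧ Nat.card (Ng (Q : Subgroup K)) ∣ 20 := by
  have hQ : Nat.card (Q : Subgroup K) = 5 := by
    obtain ⟨k, hk⟩ := IsPGroup.iff_card.1 Q.2
    have hk2 : k < 2 := by
      by_contra h
      exact not_sq_five hα hA (((pow_dvd_pow 5 (not_lt.1 h)).trans (dvd_of_eq hk.symm)).trans
        (Subgroup.card_subgroup_dvd_card _))
    interval_cases k
    · exfalso
      have := Q.not_dvd_index'
      refine this ?_ ?_
      · exact Subgroup.index_ne_zero_of_finite
      · have h := (Q : Subgroup K).index_mul_card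
        rw [hk] at h
        simpa [← h] using h5
    · simpa using hk
  refine ⟨(dvd_of_eq hQ.symm).trans (Subgroup.card_dvd_of_le Subgroup.le_normalizer), ?_⟩
  obtain ⟨⟨x, hxQ⟩, hx⟩ := exists_prime_orderOf_dvd_card' (G := (Q : Subgroup K)) 5 (dvd_of_eq hQ.symm)
  rw [← Subgroup.orderOf_coe] at hx
  simp only at hx
  have hC : Nat.card (Cs (Q : Subgroup K)) = 5 := by
    refine Eq.trans ?_ (card_Cg_five hα hev hA hx)
    exact congrArg (fun S : Subgroup K => Nat.card S)
      (Small.centralizer_singleton_eq_of_prime hQ hxQ (ne_one_of_orderOf hx)).symm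
  have hker := (Subgroup.normalizerMonoidHom (Q : Subgroup K)).ker.card_eq_card_quotient_mul_card_subgroup
  rw [Nat.card_congr (QuotientGroup.quotientKerEquivRange _).toEquiv] at hker
  have hk : Nat.card (Subgroup.normalizerMonoidHom (Q : Subgroup K)).ker = 5 := by
    refine Eq.trans ?_ hC
    refine Nat.card_congr ?_
    rw [Subgroup.normalizerMonoidHom_ker]
    exact (Subgroup.subgroupOfEquivOfLe (Subgroup.centralizer_le_normalizer _)).toEquiv
  haveI : IsCyclic (Q : Subgroup K) := isCyclic_of_prime_card hQ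
  have hr : Nat.card (Subgroup.normalizerMonoidHom (Q : Subgroup K)).range ∣ 4 :=
    (Subgroup.card_subgroup_dvd_card _).trans (dvd_of_eq (by rw [IsCyclic.card_mulAut, hQ]; rfl))
  show Nat.card (Subgroup.normalizer ((Q : Subgroup K) : Set K)) ∣ 20
  rw [hker, hk]
  exact mul_dvd_mul_right hr 5

theorem affine_sign : ∀ a : (ZMod 11)ˣ, Perm.sign (MulAction.toPerm a : Perm (ZMod 11)) = 1 → a ^ 5 = 1 := by
  decide +kernel

include hα hev in
/-- The normaliser of an 11-cycle acts by affine maps with square multipliers. -/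
theorem card_Ng_eleven [Fact (Nat.Prime 11)] (P : Sylow 11 K) :
    (Nat.card (Ng (P : Subgroup K)) = 11 ∨ Nat.card (Ng (P : Subgroup K)) = 55) ∧
      Cs (P : Subgroup K) = (P : Subgroup K) := by
  have hP := Perm.PrimeDegree.card_sylow hα K P
  obtain ⟨⟨x, hxP⟩, hx⟩ := exists_prime_orderOf_dvd_card' (G := (P : Subgroup K)) 11 (dvd_of_eq hP.symm)
  rw [← Subgroup.orderOf_coe] at hx
  simp only at hx
  have hPx : (P : Subgroup K) = Subgroup.zpowers x :=
    (Small.eq_zpowers_of_mem_prime hP hxP (ne_one_of_orderOf hx)).symm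
  have hxo : orderOf (x : Perm α) = 11 := by rw [Subgroup.orderOf_coe, hx]
  obtain ⟨e, he⟩ := Perm.PrimeDegree.exists_coord hα (g := (x : Perm α))
    (fun h => ne_one_of_orderOf hx (Subtype.ext h)) (by rw [← hxo, pow_orderOf_eq_one])
  let q : K → Perm (ZMod 11) := fun g => Perm.PrimeDegree.conjCoord e g
  have hqm : ∀ g h : K, ∀ j, q (g * h) j = q g (q h j) := fun g h j => Perm.PrimeDegree.conjCoord_mul e _ _ j
  have hqx : ∀ (n : ℕ) j, q (x ^ n) j = j + n := by
    intro n
    induction n with
    | zero => intro j; simp [q, Perm.PrimeDegree.conjCoord]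
    | succ n ih =>
      intro j
      rw [pow_succ, hqm, ih]
      have : q x j = j + 1 := by simp [q, Perm.PrimeDegree.conjCoord, he]
      rw [this]; push_cast; ring
  have hinj : ∀ g h : K, (∀ j, q g j = q h j) → g = h := fun g h e' => Subtype.ext (Equiv.ext fun z => by
    obtain ⟨j, rfl⟩ := e.surjective z
    rw [← Perm.PrimeDegree.apply_conjCoord e, ← Perm.PrimeDegree.apply_conjCoord e]
    exact congrArg e (e' j))
  have haff : ∀ g ∈ Ng (P : Subgroup K), ∃ a : ZMod 11, a ≠ 0 ∧ g * x = x ^ a.val * g ∧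
      ∀ j, q g j = a * j + q g 0 := by
    intro g hg
    have hmem : g * x * g⁻¹ ∈ Subgroup.zpowers x := hPx ▸ (Subgroup.mem_normalizer_iff.1 hg x).1 hxP
    obtain ⟨n, hn⟩ := (Submonoid.mem_powers_iff _ _).1 (mem_powers_iff_mem_zpowers.2 hmem)
    have hn' : g * x = x ^ n * g := by rw [hn]; group
    have hn'' : x ^ ((n : ZMod 11)).val = x ^ n := by
      rw [ZMod.val_natCast, ← hx, pow_mod_orderOf]
    refine ⟨n, fun h0 => ?_, by rw [hn'', hn'], fun j => ?_⟩
    · rw [ZMod.natCast_eq_zero_iff] at h0
      have h1 : g * x * g⁻¹ = 1 := by rw [← hn]; exact orderOf_dvd_iff_pow_eq_one.1 (hx ▸ h0)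
      exact ne_one_of_orderOf hx (conj_eq_one_iff.1 h1)
    · have hstep : ∀ j, q g (j + 1) = q g j + n := fun j => by
        have := congrArg (fun k => q k j) hn'
        simp only [hqm, hqx] at this
        rwa [show q x j = j + 1 by simp [q, Perm.PrimeDegree.conjCoord, he]] at this
      have : ∀ m : ℕ, q g m = (n : ZMod 11) * m + q g 0 := fun m => by
        induction m with
        | zero => simp
        | succ m ih => rw [Nat.cast_succ, hstep, ih]; ring
      simpa using this j.val
  have hCs : Cs (P : Subgroup K) = (P : Subgroup K) := by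
    refine le_antisymm (fun g hg => ?_) ?_
    · obtain ⟨a, -, hga, haj⟩ := haff g (Subgroup.centralizer_le_normalizer _ hg)
      have h1 : x ^ a.val = x := mul_right_cancel (b := g) (hga.symm.trans (mem_Cs.1 hg x hxP).symm)
      have ha1 : a = 1 := by
        have h2 := hqx a.val 0
        rw [h1] at h2
        simp [q, Perm.PrimeDegree.conjCoord, he] at h2
        exact h2.symm
      have : g = x ^ (q g 0).val := hinj _ _ fun j => by
        rw [haj j, hqx, ha1, one_mul, ZMod.natCast_val, ZMod.cast_id]
      rw [this]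
      exact pow_mem hxP _
    · haveI : IsCyclic (P : Subgroup K) := isCyclic_of_prime_card hP
      exact fun a ha => mem_Cs.2 fun b hb => congrArg Subtype.val
        ((IsCyclic.commutative (α := (P : Subgroup K))).is_comm.comm ⟨b, hb⟩ ⟨a, ha⟩)
  refine ⟨?_, hCs⟩
  have hsq : ∀ g : Ng (P : Subgroup K), ∃ a : ZMod 11, a ^ 5 = 1 ∧ (g : K) * x = x ^ a.val * g ∧
      ∀ j, q g j = a * j + q g 0 := by
    intro g
    obtain ⟨a, ha0, hga, haj⟩ := haff g g.2
    refine ⟨a, ?_, hga, haj⟩
    -- the translation part moved away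
    let t : K := x ^ (q g 0).val
    have hh : ∀ j, q (t⁻¹ * g) j = a * j := fun j => by
      have := hqm t (t⁻¹ * g) j
      rw [mul_inv_cancel_left, hqx, haj, ZMod.natCast_val, ZMod.cast_id] at this
      exact (add_right_cancel this).symm
    have heq : q (t⁻¹ * g) = (MulAction.toPerm (Units.mk0 a ha0) : Perm (ZMod 11)) := Equiv.ext fun j => hh j
    have hsign : Perm.sign (q (t⁻¹ * g)) = 1 := by
      show Perm.sign (e.trans (((t⁻¹ * g : K) : Perm α).trans e.symm)) = 1
      rw [← Equiv.trans_assoc, Perm.sign_trans_trans_symm]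
      exact Perm.mem_alternatingGroup.1 (hev (t⁻¹ * g : K).2)
    rw [heq] at hsign
    have := affine_sign _ hsign
    simpa using congrArg Units.val this
  choose A hA5 hAx hAj using hsq
  have hAinj : Function.Injective (fun g : Ng (P : Subgroup K) =>
      ((⟨A g, hA5 g⟩ : {a : ZMod 11 // a ^ 5 = 1}), q g 0)) := fun g h e' => by
    simp only [Prod.mk.injEq, Subtype.mk.injEq] at e'
    exact Subtype.ext (hinj _ _ fun j => by rw [hAj g j, hAj h j, e'.1, e'.2])
  have hle : Nat.card (Ng (P : Subgroup K)) ≤ 55 := by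
    refine (Nat.card_le_card_of_injective _ hAinj).trans (le_of_eq ?_)
    rw [Nat.card_prod, Nat.card_zmod, Nat.card_eq_fintype_card,
      ← Nat.card_eq_fintype_card, card_fifth_roots]
  have h11 : 11 ∣ Nat.card (Ng (P : Subgroup K)) := (dvd_of_eq hP.symm).trans (Subgroup.card_dvd_of_le Subgroup.le_normalizer)
  have hno : ∀ r : ℕ, r.Prime → r ∣ Nat.card (Ng (P : Subgroup K)) → r ≠ 2 ∧ r ≠ 3 := by
    intro r hr hrd
    haveI := Fact.mk hr
    obtain ⟨g, hg⟩ := exists_prime_orderOf_dvd_card' r hrd
    have hgr : (g : K) ^ r = 1 := by rw [← hg, ← Subgroup.orderOf_coe, pow_orderOf_eq_one]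
    have hpow : ∀ n j, q ((g : K) ^ n) j = A g ^ n * j + q ((g : K) ^ n) 0 := by
      intro n
      induction n with
      | zero => intro j; simp [q, Perm.PrimeDegree.conjCoord]
      | succ n ih =>
        intro j
        rw [pow_succ (g : K), hqm, hqm, ih, ih (q g 0), hAj g j]
        ring
    have hAr : A g ^ r = 1 := by
      have h1 := hpow r 1
      rw [hgr] at h1
      simp [q, Perm.PrimeDegree.conjCoord] at h1
      exact h1.symm
    have hA1 : r = 2 ∨ r = 3 → A g = 1 → False := fun hr23 h1 => by
      have hmem : (g : K) ∈ (P : Subgroup K) := by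
        have : (g : K) = x ^ (q g 0).val := hinj _ _ fun j => by
          rw [hAj g j, hqx, h1, one_mul, ZMod.natCast_val, ZMod.cast_id]
        rw [this]
        exact pow_mem hxP _
      have := Subgroup.orderOf_dvd_natCard (s := (P : Subgroup K)) hmem
      rw [hP, Subgroup.orderOf_coe, hg, Nat.prime_dvd_prime_iff_eq hr (by norm_num)] at this
      omega
    have h5 := hA5 g
    refine ⟨fun e' => hA1 (Or.inl e') (eq_one_of_fifth_root _ h5 (Or.inl ?_)),
      fun e' => hA1 (Or.inr e') (eq_one_of_fifth_root _ h5 (Or.inr ?_))⟩ <;> rw [← e'] <;> exact hAr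
  obtain ⟨k, hk⟩ := h11
  have hk5 : k ≤ 5 := by omega
  have hkpos : 0 < k := by
    have := Nat.card_pos (α := Ng (P : Subgroup K)); rcases Nat.eq_zero_or_pos k with rfl | h <;> omega
  interval_cases k
  · exact Or.inl (by omega)
  · exact absurd rfl (hno 2 Nat.prime_two (by rw [hk]; norm_num)).1
  · exact absurd rfl (hno 3 Nat.prime_three (by rw [hk]; norm_num)).2
  · exact absurd rfl (hno 2 Nat.prime_two (by rw [hk]; norm_num)).1
  · exact Or.inr (by omega)

include hα hev hA in
/-- The possible orders. -/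
theorem orders [Fact (Nat.Prime 11)] (P : Sylow 11 K) :
    Nat.card (Sylow 11 K) = 1 ∨
      ((Nat.card (Sylow 11 K) = 12 ∨ Nat.card (Sylow 11 K) = 144) ∧
        Nat.card K = 55 * Nat.card (Sylow 11 K)) := by
  haveI := Fact.mk Nat.prime_five
  have hP := Perm.PrimeDegree.card_sylow hα K P
  obtain ⟨hN, hCs⟩ := card_Ng_eleven hα hev P
  have hn : Nat.card (Sylow 11 K) * Nat.card (Ng (P : Subgroup K)) = Nat.card K :=
    Small.card_sylow_mul_card_normalizer P
  have hmod := card_sylow_modEq_one 11 K
  rcases hN with hN | hN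
  · left
    have hNP : Ng (P : Subgroup K) = (P : Subgroup K) :=
      (Subgroup.eq_of_le_of_card_ge Subgroup.le_normalizer (by rw [hN, hP])).symm
    have hco : Nat.Coprime (Nat.card (P : Subgroup K)) (P : Subgroup K).index := P.card_coprime_index
    obtain ⟨N, hNn, hNc⟩ := Transfer.exists_normal_complement_of_normalizer_le_centralizer (P : Subgroup K) hco
      (by show Ng (P : Subgroup K) ≤ Cs (P : Subgroup K); rw [hNP, hCs])
    have hNcard := hNc.card_mul
    rw [hP] at hNcard
    haveI := hNn
    haveI : IsPreprimitive K α := IsPreprimitive.of_prime_card (by rw [natCard_points hα]; norm_num)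
    by_cases hb : N = ⊥
    · rw [hb, Subgroup.card_bot] at hNcard
      rw [hN] at hn
      omega
    · exfalso
      haveI : IsPretransitive N α := by
        refine IsQuasiPreprimitive.isPretransitive_of_normal (G := K) fun h => hb ?_
        refine (Subgroup.eq_bot_iff_forall N).2 fun g hg => eq_of_smul_eq_smul (α := α) fun ω => ?_
        rw [one_smul]
        exact (h ▸ Set.mem_univ ω : ω ∈ fixedPoints N α) ⟨g, hg⟩
      haveI : Nonempty α := Fintype.card_pos_iff.1 (by omega)
      have h11 : 11 ∣ Nat.card N := by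
        rw [← natCard_points hα, ← index_stabilizer_of_transitive N (Classical.arbitrary α)]
        exact Subgroup.index_dvd_card _
      have hdd : 11 * 11 ∣ Nat.card K := by rw [← hNcard]; exact mul_dvd_mul_right h11 11
      exact Perm.PrimeDegree.not_sq_dvd_card hα K (by rw [pow_two]; exact hdd)
  · rw [hN] at hn
    have hK : Nat.card K = 55 * Nat.card (Sylow 11 K) := by omega
    have hd := card_dvd hα hev hA
    rw [hK, show 570240 = 55 * 10368 by norm_num] at hd
    have hd' := Nat.dvd_of_mul_dvd_mul_left (by norm_num) hd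
    have key : ∀ d ∈ Nat.divisors 10368, d % 11 = 1 → d ∈ ({1, 12, 144, 1728} : Finset ℕ) := by
      decide +kernel
    have hcases := key _ (Nat.mem_divisors.2 ⟨hd', by norm_num⟩) hmod
    simp only [Finset.mem_insert, Finset.mem_singleton] at hcases
    rcases hcases with h | h | h | h
    · exact Or.inl h
    · exact Or.inr ⟨Or.inl h, hK⟩
    · exact Or.inr ⟨Or.inr h, hK⟩
    · exfalso
      have h5 : 5 ∣ Nat.card K := by rw [hK]; exact dvd_mul_of_dvd_left (by norm_num) _
      obtain ⟨Q⟩ : Nonempty (Sylow 5 K) := inferInstance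
      obtain ⟨ha, hb⟩ := card_Ng_five hα hev hA Q h5
      have hn5 : Nat.card (Sylow 5 K) * Nat.card (Ng (Q : Subgroup K)) = Nat.card K :=
        Small.card_sylow_mul_card_normalizer Q
      have hm5 : Nat.card (Sylow 5 K) % 5 = 1 := card_sylow_modEq_one 5 K
      obtain ⟨c, hc⟩ := ha
      rw [hc, show 20 = 5 * 4 by norm_num] at hb
      have hc4 : c ∈ Nat.divisors 4 := Nat.mem_divisors.2 ⟨Nat.dvd_of_mul_dvd_mul_left (by norm_num) hb, by norm_num⟩
      rw [show Nat.divisors 4 = {1, 2, 4} by decide] at hc4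
      simp only [Finset.mem_insert, Finset.mem_singleton] at hc4
      rw [hc, hK, h] at hn5
      rcases hc4 with rfl | rfl | rfl <;> omega

end CfsgLib.DegreeEleven
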