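import Cfsg.Agent.DegreeEleven.Orders
import Cfsg.Agent.MElevenUnique.Involutions
import Cfsg.Agent.Small.SylowPrime

/-!
# Groups of even permutations of degree eleven: simplicity, and the sharply 4-transitive case
-/

set_option autoImplicit false

namespace CfsgLib.DegreeEleven

open MulAction Equiv CfsgLib.MElevenUnique

variable {α : Type*} [Fintype α] [DecidableEq α] {K : Subgroup (Perm α)} [IsPretransitive K α]
  (hα : Fintype.card α = 11) (hev : K ≤ alternatingGroup α) (hA : ¬ alternatingGroup α ≤ K)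

include hα in
theorem card_order_eleven [Fact (Nat.Prime 11)] :
    Nat.card {g : K // orderOf g = 11} = Nat.card (Sylow 11 K) * 10 :=
  Small.card_orderOf_eq_prime (p := 11) fun P => Perm.PrimeDegree.card_sylow hα K P

include hα in
theorem normal_isPretransitive {L : Subgroup K} [L.Normal] (hL : L ≠ ⊥) : IsPretransitive L α := by
  haveI : IsPreprimitive K α := IsPreprimitive.of_prime_card (by rw [natCard_points hα]; norm_num)
  refine IsQuasiPreprimitive.isPretransitive_of_normal (G := K) fun h => hL ?_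
  refine (Subgroup.eq_bot_iff_forall L).2 fun g hg => eq_of_smul_eq_smul (α := α) fun ω => ?_
  rw [one_smul]
  exact (h ▸ Set.mem_univ ω : ω ∈ fixedPoints L α) ⟨g, hg⟩

include hα hev hA in
theorem isSimpleGroup [Fact (Nat.Prime 11)] (h : Nat.card (Sylow 11 K) ≠ 1) : IsSimpleGroup K := by
  obtain ⟨P⟩ : Nonempty (Sylow 11 K) := inferInstance
  obtain ⟨-, hK⟩ := (orders hα hev hA P).resolve_left h
  haveI : Nontrivial K := Finite.one_lt_card_iff_nontrivial.1 (by
    have := Nat.card_pos (α := Sylow 11 K); omega)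
  refine ⟨fun L hL => ?_⟩
  by_cases hb : L = ⊥
  · exact Or.inl hb
  right
  haveI := normal_isPretransitive hα (L := L) hb
  let L' : Subgroup (Perm α) := L.map K.subtype
  let e : L ≃* L' := L.equivMapOfInjective _ K.subtype_injective
  haveI : IsPretransitive L' α := ⟨fun a b => by
    obtain ⟨g, hg⟩ := exists_smul_eq L a b
    exact ⟨e g, hg⟩⟩
  have hle : L' ≤ K := Subgroup.map_subtype_le _
  -- `L` contains all elements of order eleven
  have h11 : ∀ g : K, orderOf g = 11 → g ∈ L := by
    intro g hg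
    obtain ⟨z, hz⟩ := exists_prime_orderOf_dvd_card' (G := L) 11 (by
      rw [Nat.card_congr e.toEquiv]; exact Perm.PrimeDegree.dvd_card hα L')
    rw [← Subgroup.orderOf_coe] at hz
    obtain ⟨Q, hQ⟩ := (IsPGroup.of_card (n := 1) (by rw [Nat.card_zpowers, hg, pow_one]) :
      IsPGroup 11 (Subgroup.zpowers g)).exists_le_sylow
    obtain ⟨R, hR⟩ := (IsPGroup.of_card (n := 1) (by rw [Nat.card_zpowers, hz, pow_one]) :
      IsPGroup 11 (Subgroup.zpowers (z : K))).exists_le_sylow
    obtain ⟨c, hc⟩ := exists_smul_eq K R Q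
    have hRz := Small.eq_zpowers_of_mem_prime (Perm.PrimeDegree.card_sylow hα K R)
      (hR (Subgroup.mem_zpowers _)) (ne_one_of_orderOf hz)
    have hgQ : g ∈ (c • R : Sylow 11 K) := hc.symm ▸ hQ (Subgroup.mem_zpowers g)
    obtain ⟨w, hw, hwg⟩ := hgQ
    rw [← hwg]
    have hwL : w ∈ L := Subgroup.zpowers_le.2 z.2 (by rw [hRz]; exact hw)
    exact hL.conj_mem w hwL c
  have hn : Nat.card (Sylow 11 L') = Nat.card (Sylow 11 K) := by
    have h1 : Nat.card {g : L' // orderOf g = 11} = Nat.card {g : K // orderOf g = 11} := Nat.card_congr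
      { toFun := fun g => ⟨((e.symm g.1 : L) : K), by
          rw [Subgroup.orderOf_coe, e.symm.orderOf_eq]; exact g.2⟩
        invFun := fun g => ⟨e ⟨g.1, h11 g.1 g.2⟩, by
          rw [e.orderOf_eq, ← Subgroup.orderOf_coe]; exact g.2⟩
        left_inv := fun g => Subtype.ext (by simp)
        right_inv := fun g => Subtype.ext (by simp) }
    rw [card_order_eleven hα, card_order_eleven hα] at h1
    omega
  obtain ⟨P'⟩ : Nonempty (Sylow 11 L') := inferInstance
  rcases orders hα (hle.trans hev) (fun h' => hA (h'.trans hle)) P' with h' | ⟨-, h'⟩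
  · omega
  · refine Subgroup.eq_top_of_card_eq L ?_
    rw [Nat.card_congr e.toEquiv, h', hn, hK]

include hα hev in
theorem fix_three_invol [IsSimpleGroup K] [Fact (Nat.Prime 3)] (hK : Nat.card K = 7920) :
    (∀ u : K, orderOf u = 3 → fixCard α u = 2) ∧ ∀ t : K, orderOf t = 2 → fixCard α t = 3 := by
  haveI := Fact.mk Nat.prime_two
  have hthree : ∀ u : K, orderOf u = 3 → fixCard α u = 2 := by
    intro u hu
    obtain ⟨P, hP⟩ := (IsPGroup.of_card (n := 1) (by rw [Nat.card_zpowers, hu, pow_one]) :
      IsPGroup 3 (Subgroup.zpowers u)).exists_le_sylow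
    have huP := hP (Subgroup.mem_zpowers u)
    have hu1 := ne_one_of_orderOf hu
    have hconst : ∀ g ∈ (P : Subgroup K), g ≠ 1 → fixCard α g = fixCard α u := fun g hg hg1 => by
      obtain ⟨c, -, hc⟩ := transitive_three hK P huP hg hu1 hg1
      rw [← hc, fixCard_conj]
    classical
    haveI := Fintype.ofFinite (P : Subgroup K)
    haveI : ∀ g : (P : Subgroup K), Fintype (fixedBy α g) := fun g => Fintype.ofFinite _
    haveI : Fintype (Quotient (orbitRel (P : Subgroup K) α)) := Fintype.ofFinite _
    have hB := sum_card_fixedBy_eq_card_orbits_mul_card_group (P : Subgroup K) α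
    have hP9 := card_sylow3 hK P
    rw [← Nat.card_eq_fintype_card (α := (P : Subgroup K)), hP9] at hB
    have hsum : ∑ g : (P : Subgroup K), Fintype.card (fixedBy α g) = 11 + 8 * fixCard α u := by
      rw [← Finset.add_sum_erase _ _ (Finset.mem_univ (1 : (P : Subgroup K)))]
      have h1 : Fintype.card (fixedBy α (1 : (P : Subgroup K))) = 11 := by
        rw [Fintype.card_congr (Equiv.setCongr (show fixedBy α (1 : (P : Subgroup K)) = Set.univ by simp)),
          Fintype.card_setUniv, hα]
      have h2 : ∀ g ∈ (Finset.univ : Finset (P : Subgroup K)).erase 1,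
          Fintype.card (fixedBy α g) = fixCard α u := fun g hg => by
        rw [← Nat.card_eq_fintype_card]
        exact hconst g g.2 fun e => (Finset.mem_erase.1 hg).1 (Subtype.ext e)
      rw [h1, Finset.sum_congr rfl h2, Finset.sum_const, Finset.card_erase_of_mem (Finset.mem_univ _),
        Finset.card_univ, ← Nat.card_eq_fintype_card, hP9, smul_eq_mul]
    rw [hsum] at hB
    have := fix_le hα u
    have := fix_ne_eleven hα hu1
    omega
  refine ⟨hthree, fun t ht => ?_⟩
  have hmod := card_modEq_fix (X := Sylow 3 K) (show t ^ 2 = 1 by rw [← ht, pow_orderOf_eq_one])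
  rw [card_sylow_three hK] at hmod
  have hpos : 0 < fixCard (Sylow 3 K) t := by omega
  obtain ⟨⟨P, hP⟩⟩ := (Nat.card_pos_iff.1 hpos).1
  obtain ⟨u, hu, hu1⟩ := exists_ne_one_sylow hK P
  obtain ⟨r, hr, hru⟩ := exists_reflection_Cg hK hu hu1
  obtain ⟨c, hc⟩ := isConj_iff.1 ((reflection_data hK hr hu hu1 hru).2.2.2 t (smul_sylow_eq_iff.1 hP) ht)
  rw [← hc, fixCard_conj]
  have hu3 := (elem_three hK hu hu1).1
  have hcomm : Commute r u := mem_Cg.1 hru
  have e1 := fix_modEq_inter (X := α) hcomm (show u ^ 3 = 1 by rw [← hu3, pow_orderOf_eq_one])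
  have e2 := fix_modEq_inter (X := α) hcomm.symm (show r ^ 2 = 1 by rw [← hr, pow_orderOf_eq_one])
  have e3 : Nat.card {a : α // r • a = a ∧ u • a = a} = Nat.card {a : α // u • a = a ∧ r • a = a} :=
    Nat.card_congr (Equiv.subtypeEquivRight fun a => and_comm)
  have e4 := inter_le_fix_left (X := α) u r
  have e5 := hthree u hu3
  have e6 := fix_two hα hev hr
  omega

include hα hev hA in
theorem eq_one_of_four [IsSimpleGroup K] (hK : Nat.card K = 7920) {g : K} (x : Fin 4 ↪ α)
    (hx : ∀ i, g • x i = x i) : g = 1 := by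
  haveI := Fact.mk Nat.prime_three
  by_contra hg
  obtain ⟨p, hp, hpd⟩ := Nat.exists_prime_and_dvd (show orderOf g ≠ 1 from fun e => hg (orderOf_eq_one_iff.1 e))
  haveI := Fact.mk hp
  have hy : orderOf (g ^ (orderOf g / p)) = p := by
    rw [orderOf_pow_of_dvd (Nat.div_pos (Nat.le_of_dvd (orderOf_pos g) hpd) hp.pos).ne'
      (Nat.div_dvd_of_dvd hpd), Nat.div_div_self hpd (orderOf_pos g).ne']
  have h4 : 4 ≤ fixCard α (g ^ (orderOf g / p)) := by
    refine le_trans (le_of_eq (Nat.card_fin 4).symm) (Nat.card_le_card_of_injective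
      (fun i => (⟨x i, (stabilizer K (x i)).pow_mem (hx i) _⟩ : fixedBy α (g ^ (orderOf g / p)))) ?_)
    exact fun i j e => x.injective (congrArg Subtype.val e)
  rcases prime_dvd hα hev hA hp (hpd.trans (orderOf_dvd_natCard g)) with rfl | rfl | rfl | rfl
  · have := (fix_three_invol hα hev hK).2 _ hy; omega
  · have := (fix_three_invol hα hev hK).1 _ hy; omega
  · have := fix_five hα hA hy; omega
  · have := fix_eleven hα hy; omega

include hα hev hA in
theorem sharply_four [IsSimpleGroup K] (hK : Nat.card K = 7920) :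
    IsMultiplyPretransitive K α 4 ∧ ∀ x : Fin 4 ↪ α, stabilizer K x = ⊥ := by
  have hinj : ∀ x : Fin 4 ↪ α, Function.Injective (fun g : K => g • x) := by
    intro x g h e
    refine (inv_mul_eq_one.1 (eq_one_of_four hα hev hA hK x fun i => ?_)).symm
    have hi : g • x i = h • x i := DFunLike.congr_fun e i
    rw [mul_smul, hi, inv_smul_smul]
  have hcard : Nat.card (Fin 4 ↪ α) = 7920 := by
    rw [Nat.card_eq_fintype_card, Fintype.card_embedding_eq, hα, Fintype.card_fin]; rfl
  refine ⟨⟨fun x y => ?_⟩, fun x => (Subgroup.eq_bot_iff_forall _).2 fun g hg => ?_⟩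
  · exact ((hinj x).bijective_of_nat_card_le (by rw [hcard, hK])).2 y
  · exact hinj x (hg.trans (one_smul _ x).symm)

end CfsgLib.DegreeEleven
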